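import Groth.Agent.H7KS.Basic
import Groth.Agent.H22Alg.DegAmple
import Groth.Agent.H16Derived.KFlat.StrictPerfCone
import Groth.Agent.H16Derived.KFlat.PerfNoeth
import Groth.Agent.H10Coh.AffineAmple
import Groth.Agent.H8Props.RelPCBaseChange
import Groth.Agent.H29RR.Clifford

/-!
Finiteness in the sense of Weil: the tensor powers have finitely many constituents.
-/

set_option autoImplicit false
set_option linter.style.haveILetI false
universe u

open CategoryTheory CategoryTheory.Limits AlgebraicGeometry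

namespace Groth.Agent.H7KS

variable {X : Scheme.{u}}

/-- The value of a polynomial with natural coefficients at a module. -/
noncomputable abbrev polyVal (E : X.Modules) (P : Polynomial ℕ) : X.Modules :=
  ∐ fun i : Fin (P.natDegree + 1) => ∐ fun _ : Fin (P.coeff ↑i) => CohB1.tensorPow E ↑i

/-- Finite in the sense of Weil. -/
abbrev WF (E : X.Modules) : Prop :=
  ∃ P Q : Polynomial ℕ, P ≠ Q ∧ Nonempty (polyVal E P ≅ polyVal E Q)

/-- All tensor powers are constituents of finitely many of them. -/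
def Gen (E : X.Modules) : Prop :=
  ∃ N : ℕ, ∀ m, InAdd (fun i : Fin N => CohB1.tensorPow E i) (CohB1.tensorPow E m)

theorem card_fibre_sigma {ι : Type} [Fintype ι] [DecidableEq ι] (c : ι → ℕ) (i : ι) :
    Fintype.card {x : Σ i, Fin (c i) // x.1 = i} = c i := by
  rw [Fintype.card_congr (Equiv.sigmaSubtype (β := fun i => Fin (c i)) i), Fintype.card_fin]

/-- The sum with multiplicities `c`. -/
noncomputable abbrev blk {L : ℕ} (T : Fin L → X.Modules) (c : Fin L → ℕ) : X.Modules :=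
  ⨁ fun x : Σ i, Fin (c i) => T x.1

theorem polyVal_iso (E : X.Modules) (P : Polynomial ℕ) {L : ℕ} (hL : P.natDegree + 1 ≤ L) :
    Nonempty (polyVal E P ≅ blk (fun i : Fin L => CohB1.tensorPow E i) fun i => P.coeff i) := by
  classical
  let e₀ : polyVal E P ≅ ⨁ fun x : Σ i : Fin (P.natDegree + 1), Fin (P.coeff i) => CohB1.tensorPow E x.1 :=
    (biproduct.isoCoproduct _).symm ≪≫ biproduct.mapIso (fun i => (biproduct.isoCoproduct _).symm) ≪≫
      biproductBiproductIso (fun i : Fin (P.natDegree + 1) => Fin (P.coeff i))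
        (fun i _ => CohB1.tensorPow E i)
  obtain ⟨e₁⟩ := nonempty_iso_of_card (S := fun i : Fin L => CohB1.tensorPow E i)
    (fun x : Σ i : Fin (P.natDegree + 1), Fin (P.coeff i) => Fin.castLE hL x.1)
    (fun x : Σ i : Fin L, Fin (P.coeff i) => x.1) fun i => by
      rw [card_fibre_sigma (fun i : Fin L => P.coeff i) i]
      by_cases hi : (i : ℕ) < P.natDegree + 1
      · refine (Fintype.card_congr (Equiv.subtypeEquivRight fun x => ?_)).trans
          (card_fibre_sigma (fun j : Fin (P.natDegree + 1) => P.coeff j) ⟨i, hi⟩)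
        simp [Fin.ext_iff]
      · rw [Polynomial.coeff_eq_zero_of_natDegree_lt (by omega), Fintype.card_eq_zero_iff]
        exact ⟨fun x => hi (by rw [← x.2]; exact x.1.1.2)⟩
  exact ⟨e₀ ≪≫ e₁⟩

theorem blk_add {L : ℕ} (T : Fin L → X.Modules) (c d : Fin L → ℕ) :
    Nonempty (blk T (c + d) ≅ blk T c ⊞ blk T d) := by
  classical
  obtain ⟨e⟩ := nonempty_iso_of_card (S := T) (fun x : Σ i, Fin ((c + d) i) => x.1)
    (Sum.elim (fun x : Σ i, Fin (c i) => x.1) fun x : Σ i, Fin (d i) => x.1) fun i => by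
      rw [card_fibre_sigma (c + d), Fintype.card_congr Equiv.subtypeSum, Fintype.card_sum]
      exact congrArg₂ (· + ·) (card_fibre_sigma c i).symm (card_fibre_sigma d i).symm
  exact ⟨e ≪≫ sumSplit _⟩

variable (k : Type u) [Field k] [X.Over (Spec (CommRingCat.of k))] [IsProper (X ↘ Spec (CommRingCat.of k))]

include k in
theorem hasDecomp_of_isCoh {M : X.Modules} (hM : Coh.IsCoh M) : HasDecomp M := by
  refine hasDecomp k (fun M : X.Modules => ∃ N, Coh.IsCoh N ∧ Nonempty (Retract M N)) ?_ ?_ M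
    ⟨M, hM, ⟨Retract.refl M⟩⟩
  · rintro M N r ⟨N', hN', ⟨r'⟩⟩
    exact ⟨N', hN', ⟨r.trans r'⟩⟩
  · rintro M ⟨N, hN, ⟨r⟩⟩
    haveI := H29RR.finite_hom (k := k) hN hN
    let L : (M ⟶ M) →ₗ[k] (N ⟶ N) :=
      { toFun := fun φ => r.r ≫ φ ≫ r.i
        map_add' := fun φ ψ => by simp [Preadditive.comp_add, Preadditive.add_comp]
        map_smul' := fun c φ => by simp }
    refine Module.Finite.of_injective L fun φ ψ h => ?_
    have := congrArg (fun t => r.i ≫ t ≫ r.r) h
    simpa [L] using this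

include k in
theorem hasDecomp_biproduct {J : Type} [Fintype J] (T : J → X.Modules) (hT : ∀ j, Coh.IsCoh (T j)) :
    HasDecomp (⨁ T) := by
  choose K hK V hV e using fun j => hasDecomp_of_isCoh k (hT j)
  exact ⟨Σ j, K j, inferInstance, fun x => V x.1 x.2, fun x => hV x.1 x.2,
    ⟨biproduct.mapIso (fun j => (e j).some) ≪≫ biproductBiproductIso K V⟩⟩

include k in
theorem gen_of_wf {E : X.Modules} (hE : ∀ n, Coh.IsCoh (CohB1.tensorPow E n)) (h : WF E) : Gen E := by
  classical
  obtain ⟨P, Q, hPQ, ⟨e⟩⟩ := h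
  let S := (Finset.range (max P.natDegree Q.natDegree + 1)).filter fun n => P.coeff n ≠ Q.coeff n
  have hS : S.Nonempty := by
    obtain ⟨n, hn⟩ : ∃ n, P.coeff n ≠ Q.coeff n := by
      by_contra hc
      exact hPQ (Polynomial.ext fun n => not_not.1 fun hn => hc ⟨n, hn⟩)
    refine ⟨n, Finset.mem_filter.2 ⟨Finset.mem_range.2 (Nat.lt_succ_of_le (not_lt.1 fun hlt => hn ?_)), hn⟩⟩
    rw [Polynomial.coeff_eq_zero_of_natDegree_lt (lt_of_le_of_lt (le_max_left _ _) hlt),
      Polynomial.coeff_eq_zero_of_natDegree_lt (lt_of_le_of_lt (le_max_right _ _) hlt)]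
  let N := S.max' hS
  have hN : P.coeff N ≠ Q.coeff N := (Finset.mem_filter.1 (S.max'_mem hS)).2
  have htop : ∀ n, N < n → P.coeff n = Q.coeff n := fun n hn => by
    by_contra hc
    by_cases hr : n < max P.natDegree Q.natDegree + 1
    · exact absurd (S.le_max' n (Finset.mem_filter.2 ⟨Finset.mem_range.2 hr, hc⟩)) (not_le.2 hn)
    · apply hc
      rw [Polynomial.coeff_eq_zero_of_natDegree_lt (by omega),
        Polynomial.coeff_eq_zero_of_natDegree_lt (by omega)]
  let L := max (max P.natDegree Q.natDegree + 1) (N + 1)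
  let T : Fin L → X.Modules := fun i => CohB1.tensorPow E i
  obtain ⟨eP⟩ := polyVal_iso E P (show P.natDegree + 1 ≤ L by omega)
  obtain ⟨eQ⟩ := polyVal_iso E Q (show Q.natDegree + 1 ≤ L by omega)
  let m : Fin L → ℕ := fun i => min (P.coeff i) (Q.coeff i)
  let a : Fin L → ℕ := fun i => P.coeff i - m i
  let b : Fin L → ℕ := fun i => Q.coeff i - m i
  obtain ⟨sP⟩ := blk_add T m a
  obtain ⟨sQ⟩ := blk_add T m b
  have ha : (fun i : Fin L => P.coeff i) = m + a := funext fun i => by simp only [Pi.add_apply, m, a]; omega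
  have hb : (fun i : Fin L => Q.coeff i) = m + b := funext fun i => by simp only [Pi.add_apply, m, b]; omega
  let e₁ : blk T (m + a) ≅ blk T (m + b) :=
    eqToIso (by rw [← ha]) ≪≫ eP.symm ≪≫ e ≪≫ eQ ≪≫ eqToIso (by rw [← hb])
  obtain ⟨e₂⟩ := (hasDecomp_biproduct k (fun x : Σ i, Fin (m i) => T x.1) fun x => hE _).cancel
    (sP.symm ≪≫ e₁ ≪≫ sQ)
  have hNL : N < L := by omega
  -- the highest differing power is a constituent of the lower ones
  have key : ∀ (c d : Fin L → ℕ), (blk T c ≅ blk T d) → 0 < c ⟨N, hNL⟩ → d ⟨N, hNL⟩ = 0 →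
      (∀ i : Fin L, N < i → d i = 0) →
      InAdd (fun i : Fin N => CohB1.tensorPow E i) (CohB1.tensorPow E N) := by
    intro c d e' hc hd0 hd
    have hlt : ∀ x : Σ i, Fin (d i), (x.1 : ℕ) < N := fun x => by
      rcases lt_trichotomy (x.1 : ℕ) N with h | h | h
      · exact h
      · exact absurd x.2.pos (by
          have h0 : d x.1 = 0 := (congrArg d (Fin.ext h : x.1 = ⟨N, hNL⟩)).trans hd0
          omega)
      · exact absurd x.2.pos (by have := hd _ h; omega)
    refine inAdd_biproduct (fun i : Fin N => CohB1.tensorPow E i) (fun x : Σ i, Fin (d i) => ⟨x.1, hlt x⟩)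
      ((?_ : Retract (CohB1.tensorPow E N) (blk T c)).trans (Retract.ofIso e'))
    exact ⟨biproduct.ι (fun x : Σ i, Fin (c i) => T x.1) ⟨⟨N, hNL⟩, ⟨0, hc⟩⟩,
      biproduct.π (fun x : Σ i, Fin (c i) => T x.1) ⟨⟨N, hNL⟩, ⟨0, hc⟩⟩, biproduct.ι_π_self _ _⟩
  have hb' : ∀ i : Fin L, N < i → b i = 0 := fun i hi => by
    have := htop _ hi; simp only [b, m]; omega
  have ha' : ∀ i : Fin L, N < i → a i = 0 := fun i hi => by
    have := htop _ hi; simp only [a, m]; omega
  have hbase : InAdd (fun i : Fin N => CohB1.tensorPow E i) (CohB1.tensorPow E N) := by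
    rcases lt_or_gt_of_ne hN with h | h
    · exact key b a e₂.symm (by simp only [b, m]; omega) (by simp only [a, m]; omega) ha'
    · exact key a b e₂ (by simp only [a, m]; omega) (by simp only [b, m]; omega) hb'
  refine ⟨N, fun n => ?_⟩
  induction n with
  | zero =>
    rcases Nat.eq_zero_or_pos N with h | h
    · simpa only [h] using hbase
    · exact inAdd_self (fun i : Fin N => CohB1.tensorPow E i) ⟨0, h⟩
  | succ n ih =>
    let F := (DCoh.tensorBi (X := X)).flip.obj E
    haveI : F.Additive := inferInstanceAs (((DCoh.tensorBi (X := X)).flip.obj E).Additive)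
    refine (ih.map F).trans fun i => ?_
    show InAdd _ (CohB1.tensorPow E (i + 1))
    rcases Nat.lt_or_ge ((i : ℕ) + 1) N with h | h
    · exact inAdd_self (fun i : Fin N => CohB1.tensorPow E i) ⟨i + 1, h⟩
    · simpa only [show (i : ℕ) + 1 = N by omega] using hbase

include k in
theorem wf_of_inAdd {E : X.Modules} (hE : ∀ n, Coh.IsCoh (CohB1.tensorPow E n)) {n : ℕ} (S : Fin n → X.Modules)
    (hS : ∀ i, Coh.IsCoh (S i)) (h : ∀ m, InAdd S (CohB1.tensorPow E m)) : WF E := by
  classical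
  choose K hK V hV eS using fun i => hasDecomp_of_isCoh k (hS i)
  let U : (Σ i, K i) → X.Modules := fun x => V x.1 x.2
  have hU : ∀ m, InAdd U (CohB1.tensorPow E m) := fun m => (h m).trans fun i =>
    (inAdd_biproduct U (fun j : K i => (⟨i, j⟩ : Σ i, K i)) (Retract.ofIso (eS i).some))
  choose J hJ g eJ using fun m =>
    (hasDecomp_of_isCoh k (hE m)).exists_iso (fun x : Σ i, K i => hV x.1 x.2) (hU m)
  let R := Fintype.card (Σ i, K i) + 1
  let v : Fin R → (Σ i, K i) → ℤ := fun m u => Fintype.card {j // g m j = u}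
  have hdep : ¬ LinearIndependent ℤ v := fun hl => by
    have h1 := hl.fintype_card_le_finrank
    rw [Module.finrank_fintype_fun_eq_card, Fintype.card_fin] at h1
    omega
  obtain ⟨c, hc, m₀, hm₀⟩ := Fintype.not_linearIndependent_iff.1 hdep
  let poly : (Fin R → ℕ) → Polynomial ℕ := fun a => ∑ m : Fin R, Polynomial.monomial (m : ℕ) (a m)
  have hcoeff : ∀ (a : Fin R → ℕ) (m : Fin R), (poly a).coeff m = a m := fun a m => by
    simp only [poly, Polynomial.finsetSum_coeff, Polynomial.coeff_monomial]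
    rw [Finset.sum_eq_single m (fun j _ hj => if_neg fun e => hj (Fin.ext e)) (by simp), if_pos rfl]
  have hdeg : ∀ a : Fin R → ℕ, (poly a).natDegree + 1 ≤ R := fun a => by
    refine Nat.succ_le_iff.2 (Nat.lt_succ_of_le ?_)
    refine Polynomial.natDegree_sum_le_of_forall_le _ _ fun m _ => (Polynomial.natDegree_monomial_le _).trans ?_
    exact Nat.lt_succ_iff.1 m.2
  let cp : Fin R → ℕ := fun m => (c m).toNat
  let cn : Fin R → ℕ := fun m => (-c m).toNat
  have hiso : ∀ a : Fin R → ℕ, ∃ (W : Type) (_ : Fintype W) (w : W → Σ i, K i),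
      Nonempty (polyVal E (poly a) ≅ ⨁ fun j => U (w j)) ∧
      ∀ u, (Fintype.card {j // w j = u} : ℤ) = ∑ m, (a m : ℤ) * v m u := by
    intro a
    obtain ⟨e⟩ := polyVal_iso E (poly a) (hdeg a)
    refine ⟨Σ x : (Σ m : Fin R, Fin ((poly a).coeff m)), J x.1, inferInstance, fun p => g p.1.1 p.2,
      ⟨e ≪≫ biproduct.mapIso (fun x => (eJ x.1).some) ≪≫
        biproductBiproductIso (fun x : (Σ m : Fin R, Fin ((poly a).coeff m)) => J x.1)
          (fun x j => U (g x.1 j))⟩, fun u => ?_⟩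
    have h1 : Fintype.card {p : Σ x : (Σ m : Fin R, Fin ((poly a).coeff m)), J x.1 // g p.1.1 p.2 = u} =
        ∑ x : (Σ m : Fin R, Fin ((poly a).coeff m)), Fintype.card {j // g x.1 j = u} := by
      rw [← Fintype.card_sigma]
      exact Fintype.card_congr
        { toFun := fun p => ⟨p.1.1, p.1.2, p.2⟩
          invFun := fun p => ⟨⟨p.1, p.2.1⟩, p.2.2⟩
          left_inv := fun p => rfl
          right_inv := fun p => rfl }
    rw [h1, Fintype.sum_sigma]
    push_cast
    refine Finset.sum_congr rfl fun m _ => ?_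
    show (∑ _x : Fin ((poly a).coeff m), v m u) = _
    rw [Finset.sum_const, Finset.card_univ, Fintype.card_fin, nsmul_eq_mul, hcoeff]
  obtain ⟨W, hW, w, ⟨eW⟩, hw⟩ := hiso cp
  obtain ⟨W', hW', w', ⟨eW'⟩, hw'⟩ := hiso cn
  obtain ⟨φ⟩ := nonempty_iso_of_card (S := U) w w' fun u => by
    have h1 := congrFun hc u
    simp only [Finset.sum_apply, Pi.smul_apply, smul_eq_mul, Pi.zero_apply] at h1
    have h2 : ∑ m, (cp m : ℤ) * v m u = ∑ m, (cn m : ℤ) * v m u := by
      rw [← sub_eq_zero, ← Finset.sum_sub_distrib]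
      refine (Finset.sum_congr rfl fun m _ => ?_).trans h1
      rw [← sub_mul]
      congr 1
      simp only [cp, cn]
      omega
    exact_mod_cast (hw u).trans (h2.trans (hw' u).symm)
  refine ⟨poly cp, poly cn, fun h => hm₀ ?_, ⟨eW ≪≫ φ ≪≫ eW'.symm⟩⟩
  have h1 := congrArg (fun P => P.coeff m₀) h
  simp only [hcoeff, cp, cn] at h1
  omega

end Groth.Agent.H7KS

namespace Groth.Agent.H7KS

variable {X : Scheme.{u}}

theorem tensorPow_retract {A B : X.Modules} (r : Retract A B) :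
    ∀ n, Nonempty (Retract (CohB1.tensorPow A n) (CohB1.tensorPow B n))
  | 0 => ⟨Retract.refl _⟩
  | n + 1 => by
    obtain ⟨s⟩ := tensorPow_retract r n
    exact ⟨(s.map ((DCoh.tensorBi (X := X)).flip.obj A)).trans
      (r.map ((DCoh.tensorBi (X := X)).obj (CohB1.tensorPow B n)))⟩

/-- The interchange of a fourfold tensor product. -/
noncomputable def interchange (A B C D : X.Modules) :
    CohB1.tensorMod (CohB1.tensorMod A B) (CohB1.tensorMod C D) ≅
      CohB1.tensorMod (CohB1.tensorMod A C) (CohB1.tensorMod B D) :=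
  H10Coh.Tw.assoc A B _ ≪≫
    PicGrp.tensorModIso (Iso.refl A) ((H10Coh.Tw.assoc B C D).symm ≪≫
      PicGrp.tensorModIso (H10Coh.Tw.commIso B C) (Iso.refl D) ≪≫ H10Coh.Tw.assoc C B D) ≪≫
    (H10Coh.Tw.assoc A C _).symm

theorem tensorPow_tensorMod (A B : X.Modules) : ∀ n, Nonempty (CohB1.tensorPow (CohB1.tensorMod A B) n ≅
    CohB1.tensorMod (CohB1.tensorPow A n) (CohB1.tensorPow B n))
  | 0 => ⟨(H10Coh.Tw.leftUnitIso (Coh.structureModule X)).symm⟩
  | n + 1 => by
    obtain ⟨e⟩ := tensorPow_tensorMod A B n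
    exact ⟨PicGrp.tensorModIso e (Iso.refl _) ≪≫ interchange _ _ _ _⟩

theorem inAdd_tensorMod {ι κ : Type} {S : ι → X.Modules} {T : κ → X.Modules} {A B : X.Modules}
    (hA : InAdd S A) (hB : InAdd T B) :
    InAdd (fun p : ι × κ => CohB1.tensorMod (S p.1) (T p.2)) (CohB1.tensorMod A B) := by
  let F := (DCoh.tensorBi (X := X)).flip.obj B
  haveI : F.Additive := inferInstanceAs (((DCoh.tensorBi (X := X)).flip.obj B).Additive)
  refine (hA.map F).trans fun i => ?_
  let G := (DCoh.tensorBi (X := X)).obj (S i)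
  haveI : G.Additive := inferInstanceAs (((DCoh.tensorBi (X := X)).obj (S i)).Additive)
  exact (hB.map G).trans fun j => inAdd_self (fun p : ι × κ => CohB1.tensorMod (S p.1) (T p.2)) (i, j)

theorem isFinLocFree_tensorPow {M : X.Modules} (hM : FlatMod.IsFinLocFree M) :
    ∀ j : ℕ, FlatMod.IsFinLocFree (CohB1.tensorPow M j)
  | 0 => H8Props.RelPC.isFinLocFree_structure X
  | j + 1 => H10Coh.Tw.isFinLocFree_tensorMod (isFinLocFree_tensorPow hM j) hM

theorem isFinLocFree_of_rank {r : ℕ} {M : X.Modules} (h : FlatMod.IsFinLocFreeOfRank r M) :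
    FlatMod.IsFinLocFree M := fun x => by
  obtain ⟨U, hx, e⟩ := h x
  exact ⟨U, r, hx, e⟩

variable (k : Type u) [Field k] [X.Over (Spec (CommRingCat.of k))] [IsProper (X ↘ Spec (CommRingCat.of k))]

include k in
theorem isCoh_tensorPow {M : X.Modules} (hM : FlatMod.IsFinLocFree M) (j : ℕ) :
    Coh.IsCoh (CohB1.tensorPow M j) := by
  haveI := H29RR.isNoetherian_of_proper (k := k) (X := X)
  exact H16Derived.KFlat.Stalk.isCoh_of_isFinLocFree (isFinLocFree_tensorPow hM j)

include k in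
theorem wf_left_of_biprod {E₁ E₂ : X.Modules} (h₁ : FlatMod.IsFinLocFree E₁) (h₂ : FlatMod.IsFinLocFree E₂)
    (h : WF (E₁ ⊞ E₂)) : WF E₁ := by
  have h12 := H16Derived.KFlat.Stalk.isFinLocFree_biprod h₁ h₂
  obtain ⟨N, hN⟩ := gen_of_wf k (isCoh_tensorPow k h12) h
  refine wf_of_inAdd k (isCoh_tensorPow k h₁) _ (fun i : Fin N => isCoh_tensorPow k h12 i) fun m => ?_
  exact (hN m).of_retract (tensorPow_retract ⟨biprod.inl, biprod.fst, biprod.inl_fst⟩ m).some

include k in
theorem wf_biprod_tensor {E₁ E₂ : X.Modules} (h₁ : FlatMod.IsFinLocFree E₁) (h₂ : FlatMod.IsFinLocFree E₂)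
    (w₁ : WF E₁) (w₂ : WF E₂) : WF (E₁ ⊞ E₂) ∧ WF (CohB1.tensorMod E₁ E₂) := by
  haveI := H29RR.isNoetherian_of_proper (k := k) (X := X)
  obtain ⟨N₁, g₁⟩ := gen_of_wf k (isCoh_tensorPow k h₁) w₁
  obtain ⟨N₂, g₂⟩ := gen_of_wf k (isCoh_tensorPow k h₂) w₂
  let S : Fin (N₁ * N₂) → X.Modules := fun p => CohB1.tensorMod
    (CohB1.tensorPow E₁ (finProdFinEquiv.symm p).1) (CohB1.tensorPow E₂ (finProdFinEquiv.symm p).2)
  have hS : ∀ p, Coh.IsCoh (S p) := fun p => H16Derived.KFlat.Stalk.isCoh_of_isFinLocFree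
    (H10Coh.Tw.isFinLocFree_tensorMod (isFinLocFree_tensorPow h₁ _) (isFinLocFree_tensorPow h₂ _))
  have hin : ∀ a b : ℕ, InAdd S (CohB1.tensorMod (CohB1.tensorPow E₁ a) (CohB1.tensorPow E₂ b)) := fun a b =>
    (inAdd_tensorMod (g₁ a) (g₂ b)).trans fun p => by
      simpa only [S, Equiv.symm_apply_apply] using inAdd_self S (finProdFinEquiv p)
  refine ⟨?_, ?_⟩
  · refine wf_of_inAdd k (isCoh_tensorPow k (H16Derived.KFlat.Stalk.isFinLocFree_biprod h₁ h₂)) S hS fun m => ?_
    induction m with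
    | zero => exact (hin 0 0).of_iso (H10Coh.Tw.leftUnitIso (Coh.structureModule X)).symm
    | succ m ih =>
      let F := (DCoh.tensorBi (X := X)).flip.obj (E₁ ⊞ E₂)
      haveI : F.Additive := inferInstanceAs (((DCoh.tensorBi (X := X)).flip.obj (E₁ ⊞ E₂)).Additive)
      refine (ih.map F).trans fun p => ?_
      let G := (DCoh.tensorBi (X := X)).obj (S p)
      haveI : G.Additive := inferInstanceAs (((DCoh.tensorBi (X := X)).obj (S p)).Additive)
      let T : Bool → X.Modules := fun b => bif b then E₁ else E₂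
      have hT : InAdd T (E₁ ⊞ E₂) := ⟨Bool, inferInstance, id,
        fun b => Bool.rec (biprod.snd : E₁ ⊞ E₂ ⟶ E₂) (biprod.fst : E₁ ⊞ E₂ ⟶ E₁) b,
        fun b => Bool.rec (biprod.inr : E₂ ⟶ E₁ ⊞ E₂) (biprod.inl : E₁ ⟶ E₁ ⊞ E₂) b,
        (Fintype.sum_bool _).trans biprod.total⟩
      refine (hT.map G).trans fun b => ?_
      show InAdd S (CohB1.tensorMod (S p) (T b))
      set a := ((finProdFinEquiv.symm p).1 : ℕ)
      set c := ((finProdFinEquiv.symm p).2 : ℕ)
      cases b with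
      | true => exact (hin (a + 1) c).of_iso (H10Coh.Tw.assoc _ _ _ ≪≫
          PicGrp.tensorModIso (Iso.refl _) (H10Coh.Tw.commIso _ _) ≪≫ (H10Coh.Tw.assoc _ _ _).symm)
      | false => exact (hin a (c + 1)).of_iso (H10Coh.Tw.assoc _ _ _)
  · refine wf_of_inAdd k (isCoh_tensorPow k (H10Coh.Tw.isFinLocFree_tensorMod h₁ h₂)) S hS fun m => ?_
    exact (hin m m).of_iso (tensorPow_tensorMod E₁ E₂ m).some

end Groth.Agent.H7KS
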