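import Groth.Agent.H29RR.Indecomposable
import Mathlib.CategoryTheory.Preadditive.Biproducts
import Mathlib.CategoryTheory.Linear.Basic

/-!
Decompositions into objects with local endomorphism rings: existence, cancellation, multiplicities.
-/

set_option autoImplicit false
set_option linter.style.haveILetI false

open CategoryTheory CategoryTheory.Limits

universe w v v₁ u₁

namespace Groth.Agent.H7KS

variable {C : Type u₁} [Category.{v} C] [Preadditive C]

/-- A nonzero object with local endomorphism ring. -/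
def IsLocalEnd (U : C) : Prop :=
  ¬ IsZero U ∧ ∀ f g : U ⟶ U, IsIso (f + g) → IsIso f ∨ IsIso g

/-- `M` is a retract of a finite sum of members of the family `S`. -/
def InAdd {ι : Type w} (S : ι → C) (M : C) : Prop :=
  ∃ (J : Type) (_ : Fintype J) (g : J → ι) (a : ∀ j, M ⟶ S (g j)) (b : ∀ j, S (g j) ⟶ M),
    ∑ j, a j ≫ b j = 𝟙 M

theorem InAdd.of_retract {ι : Type w} {S : ι → C} {M N : C} (h : InAdd S N) (r : Retract M N) : InAdd S M := by
  obtain ⟨J, hJ, g, a, b, hab⟩ := h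
  refine ⟨J, hJ, g, fun j => r.i ≫ a j, fun j => b j ≫ r.r, ?_⟩
  calc ∑ j, (r.i ≫ a j) ≫ b j ≫ r.r = r.i ≫ (∑ j, a j ≫ b j) ≫ r.r := by
        simp only [Preadditive.comp_sum, Preadditive.sum_comp, Category.assoc]
    _ = 𝟙 M := by rw [hab, Category.id_comp, r.retract]

theorem InAdd.of_iso {ι : Type w} {S : ι → C} {M N : C} (h : InAdd S N) (e : M ≅ N) : InAdd S M :=
  h.of_retract ⟨e.hom, e.inv, e.hom_inv_id⟩

theorem inAdd_self {ι : Type w} (S : ι → C) (i : ι) : InAdd S (S i) :=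
  ⟨PUnit, inferInstance, fun _ => i, fun _ => 𝟙 _, fun _ => 𝟙 _, by simp⟩

theorem InAdd.trans {ι κ : Type w} {S : ι → C} {T : κ → C} {M : C} (h : InAdd S M)
    (hS : ∀ i, InAdd T (S i)) : InAdd T M := by
  obtain ⟨J, hJ, g, a, b, hab⟩ := h
  choose K hK g' a' b' hab' using fun j => hS (g j)
  refine ⟨Σ j, K j, inferInstance, fun p => g' p.1 p.2, fun p => a p.1 ≫ a' p.1 p.2,
    fun p => b' p.1 p.2 ≫ b p.1, ?_⟩
  rw [Fintype.sum_sigma]
  conv_rhs => rw [← hab]
  refine Finset.sum_congr rfl fun j _ => ?_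
  calc ∑ k, (a j ≫ a' j k) ≫ b' j k ≫ b j = a j ≫ (∑ k, a' j k ≫ b' j k) ≫ b j := by
        simp only [Preadditive.comp_sum, Preadditive.sum_comp, Category.assoc]
    _ = a j ≫ b j := by rw [show ∑ k, a' j k ≫ b' j k = 𝟙 (S (g j)) from hab' j, Category.id_comp]

theorem inAdd_biproduct [HasFiniteBiproducts C] {ι : Type w} {J : Type} [Fintype J] (S : ι → C) (g : J → ι)
    {M : C} (r : Retract M (⨁ fun j => S (g j))) : InAdd S M :=
  InAdd.of_retract ⟨J, inferInstance, g, fun j => biproduct.π _ j, fun j => biproduct.ι (fun j => S (g j)) j,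
    biproduct.total⟩ r

theorem InAdd.map {D : Type*} [Category.{v₁} D] [Preadditive D] (F : C ⥤ D) [F.Additive] {ι : Type w}
    {S : ι → C} {M : C} (h : InAdd S M) : InAdd (fun i => F.obj (S i)) (F.obj M) := by
  obtain ⟨J, hJ, g, a, b, hab⟩ := h
  exact ⟨J, hJ, g, fun j => F.map (a j), fun j => F.map (b j), by
    rw [← F.map_id, ← hab, F.map_sum]; simp only [F.map_comp]⟩

theorem IsLocalEnd.exists_isIso_of_sum {U : C} (hU : IsLocalEnd U) {J : Type} (s : Finset J) (f : J → (U ⟶ U))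
    (h : IsIso (∑ j ∈ s, f j)) : ∃ j ∈ s, IsIso (f j) := by
  classical
  induction s using Finset.induction with
  | empty =>
    refine absurd ?_ hU.1
    rw [Finset.sum_empty] at h
    rw [IsZero.iff_id_eq_zero, ← IsIso.hom_inv_id (0 : U ⟶ U)]
    exact zero_comp
  | @insert a s ha ih =>
    rw [Finset.sum_insert ha] at h
    rcases hU.2 _ _ h with h1 | h1
    · exact ⟨a, Finset.mem_insert_self a s, h1⟩
    · obtain ⟨j, hj, hj'⟩ := ih h1
      exact ⟨j, Finset.mem_insert_of_mem hj, hj'⟩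

/-- A retract of a sum with local endomorphism ring is a retract of a summand. -/
theorem IsLocalEnd.exists_retract {U : C} (hU : IsLocalEnd U) {ι : Type w} {S : ι → C} (h : InAdd S U) :
    ∃ i, Nonempty (Retract U (S i)) := by
  obtain ⟨J, hJ, g, a, b, hab⟩ := h
  obtain ⟨j, -, hj⟩ := hU.exists_isIso_of_sum Finset.univ (fun j => a j ≫ b j) (by rw [hab]; infer_instance)
  refine ⟨g j, ⟨⟨a j, b j ≫ inv (a j ≫ b j), ?_⟩⟩⟩
  rw [← Category.assoc, IsIso.hom_inv_id]

theorem IsLocalEnd.iso_of_retract {U V : C} (hU : IsLocalEnd U) (hV : IsLocalEnd V) (r : Retract U V) :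
    Nonempty (U ≅ V) := by
  rcases hV.2 (r.r ≫ r.i) (𝟙 V - r.r ≫ r.i) (by rw [add_sub_cancel]; infer_instance) with h | h
  · refine ⟨⟨r.i, r.r, r.retract, ?_⟩⟩
    apply (cancel_epi (r.r ≫ r.i)).1
    simp
  · refine absurd ?_ hU.1
    have h1 : r.r ≫ r.i = 0 := by
      apply (cancel_epi (𝟙 V - r.r ≫ r.i)).1
      simp [Preadditive.sub_comp]
    rw [IsZero.iff_id_eq_zero]
    calc 𝟙 U = r.i ≫ (r.r ≫ r.i) ≫ r.r := by simp
      _ = 0 := by rw [h1, zero_comp, comp_zero]

variable [HasFiniteBiproducts C] [HasBinaryBiproducts C]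

/-- An object with local endomorphism ring cancels. -/
theorem IsLocalEnd.cancel {U : C} (hU : IsLocalEnd U) {M N : C} (e : U ⊞ M ≅ U ⊞ N) : Nonempty (M ≅ N) := by
  let a : U ⟶ U := biprod.inl ≫ e.hom ≫ biprod.fst
  let b : U ⟶ N := biprod.inl ≫ e.hom ≫ biprod.snd
  let c : M ⟶ U := biprod.inr ≫ e.hom ≫ biprod.fst
  let a' : U ⟶ U := biprod.inl ≫ e.inv ≫ biprod.fst
  let c' : N ⟶ U := biprod.inr ≫ e.inv ≫ biprod.fst
  by_cases ha : IsIso a
  · haveI : IsIso (biprod.inl ≫ e.hom ≫ biprod.fst) := ha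
    exact ⟨Biprod.isoElim e⟩
  have h1 : a ≫ a' + b ≫ c' = 𝟙 U := by
    have h0 : e.hom ≫ (biprod.fst ≫ biprod.inl + biprod.snd ≫ biprod.inr) ≫ e.inv = 𝟙 _ := by
      rw [biprod.total, Category.id_comp, e.hom_inv_id]
    have := congrArg (fun t => biprod.inl ≫ t ≫ biprod.fst) h0
    simp only [Preadditive.comp_add, Preadditive.add_comp, Category.assoc, Category.id_comp,
      biprod.inl_fst] at this
    simpa only [a, b, a', c', Category.assoc] using this
  -- after a shear the corner entry becomes invertible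
  have h2 : IsIso (b ≫ c') := by
    rcases hU.2 _ _ (by rw [h1]; infer_instance : IsIso (a ≫ a' + b ≫ c')) with h | h
    · exfalso
      apply ha
      let w := a' ≫ inv (a ≫ a')
      have hw : a ≫ w = 𝟙 U := by rw [← Category.assoc, IsIso.hom_inv_id]
      rcases hU.2 (w ≫ a) (𝟙 U - w ≫ a) (by rw [add_sub_cancel]; infer_instance) with h' | h'
      · refine ⟨w, hw, ?_⟩
        apply (cancel_epi (w ≫ a)).1
        simp [reassoc_of% hw]
      · refine absurd ((IsZero.iff_id_eq_zero _).2 ?_) hU.1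
        have h3 : w ≫ a = 0 := by
          apply (cancel_epi (𝟙 U - w ≫ a)).1
          simp [Preadditive.sub_comp, reassoc_of% hw]
        calc 𝟙 U = a ≫ (w ≫ a) ≫ w := by simp [hw, reassoc_of% hw]
          _ = 0 := by rw [h3, zero_comp, comp_zero]
    · exact h
  let T : U ⊞ N ≅ U ⊞ N := Biprod.unipotentLower c'
  have h4 : IsIso (biprod.inl ≫ (e ≪≫ T).hom ≫ biprod.fst) := by
    have h5 : biprod.inl ≫ (e ≪≫ T).hom ≫ biprod.fst = a + b ≫ c' := by
      simp [T, a, b, Biprod.unipotentLower, Biprod.ofComponents, Preadditive.comp_add]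
    rw [h5]
    rcases hU.2 (a + b ≫ c') (-a) (by simpa using h2) with h6 | h6
    · exact h6
    · exfalso
      exact ha ⟨-inv (-a), by rw [Preadditive.comp_neg, ← Preadditive.neg_comp, IsIso.hom_inv_id],
          by rw [Preadditive.neg_comp, ← Preadditive.comp_neg, IsIso.inv_hom_id]⟩
  exact ⟨Biprod.isoElim (e ≪≫ T)⟩

/-- Sums of families agreeing up to a bijection of the index types. -/
theorem nonempty_iso_of_card {ι : Type} [Fintype ι] [DecidableEq ι] {S : ι → C} {J J' : Type} [Fintype J]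
    [Fintype J'] (g : J → ι) (g' : J' → ι)
    (h : ∀ i, Fintype.card {j // g j = i} = Fintype.card {j // g' j = i}) :
    Nonempty ((⨁ fun j => S (g j)) ≅ ⨁ fun j => S (g' j)) := by
  let φ : J ≃ J' := (Equiv.sigmaFiberEquiv g).symm.trans
    ((Equiv.sigmaCongrRight fun i => Fintype.equivOfCardEq (h i)).trans (Equiv.sigmaFiberEquiv g'))
  have hφ : ∀ j, g' (φ j) = g j := fun j => ((Fintype.equivOfCardEq (h (g j))) ⟨j, rfl⟩).2
  exact ⟨biproduct.whiskerEquiv φ fun j => eqToIso (by rw [hφ])⟩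

/-- Splitting of a sum indexed by a disjoint union. -/
noncomputable def sumSplit {A B : Type} [Fintype A] [Fintype B] (V : A ⊕ B → C) :
    (⨁ V) ≅ (⨁ fun a => V (.inl a)) ⊞ ⨁ fun b => V (.inr b) where
  hom := biprod.lift (biproduct.lift fun a => biproduct.π V (.inl a)) (biproduct.lift fun b => biproduct.π V (.inr b))
  inv := biprod.desc (biproduct.desc fun a => biproduct.ι V (.inl a)) (biproduct.desc fun b => biproduct.ι V (.inr b))
  hom_inv_id := by
    rw [biprod.lift_desc, biproduct.lift_desc, biproduct.lift_desc]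
    exact (Fintype.sum_sum_type (fun x => biproduct.π V x ≫ biproduct.ι V x)).symm.trans biproduct.total
  inv_hom_id := by
    ext a b <;> simp [biproduct.ι_π]
    all_goals (by_cases h : a = b)
    all_goals first
      | (subst h; simp)
      | simp [biproduct.ι_π_ne _ h, biproduct.ι_π_ne, h]

/-- An object with a decomposition into objects with local endomorphism rings. -/
def HasDecomp (M : C) : Prop :=
  ∃ (J : Type) (_ : Fintype J) (V : J → C), (∀ j, IsLocalEnd (V j)) ∧ Nonempty (M ≅ ⨁ V)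

/-- Decomposable objects cancel. -/
theorem HasDecomp.cancel {R : C} (hR : HasDecomp R) : ∀ {M N : C}, (R ⊞ M ≅ R ⊞ N) → Nonempty (M ≅ N) := by
  classical
  obtain ⟨J, hJ, V, hV, ⟨eR⟩⟩ := hR
  intro M N e
  suffices key : ∀ (e' : (⨁ V) ⊞ M ≅ (⨁ V) ⊞ N), Nonempty (M ≅ N) from
    key (biprod.mapIso eR.symm (Iso.refl _) ≪≫ e ≪≫ biprod.mapIso eR (Iso.refl _))
  clear e eR
  intro e'
  induction hn : Fintype.card J generalizing J M N with
  | zero =>
    haveI : IsEmpty J := Fintype.card_eq_zero_iff.1 hn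
    have hz : IsZero (⨁ V) := by
      rw [IsZero.iff_id_eq_zero, ← biproduct.total]
      exact Finset.sum_of_isEmpty _
    exact ⟨(isoBiprodZero hz).trans (biprod.braiding _ _) |>.trans
      (e' ≪≫ biprod.braiding _ _ ≪≫ (isoBiprodZero hz).symm)⟩
  | succ n ih =>
    obtain ⟨j₀⟩ : Nonempty J := Fintype.card_pos_iff.1 (by omega)
    let φ : {j // j = j₀} ⊕ {j // ¬ j = j₀} ≃ J := Equiv.sumCompl _
    let s : (⨁ V) ≅ (⨁ fun a : {j // j = j₀} => V a.1) ⊞ ⨁ fun b : {j // ¬ j = j₀} => V b.1 :=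
      (biproduct.whiskerEquiv φ (fun x => Iso.refl (V (φ x)))).symm ≪≫ sumSplit (fun x => V (φ x))
    let u : (⨁ fun a : {j // j = j₀} => V a.1) ≅ V j₀ :=
      { hom := biproduct.π (fun a : {j // j = j₀} => V a.1) ⟨j₀, rfl⟩
        inv := biproduct.ι (fun a : {j // j = j₀} => V a.1) ⟨j₀, rfl⟩
        hom_inv_id := by
          ext ⟨a, rfl⟩ ⟨b, hb⟩
          subst hb
          simp
        inv_hom_id := by simp }
    let t : ∀ Q : C, (⨁ V) ⊞ Q ≅ V j₀ ⊞ ((⨁ fun b : {j // ¬ j = j₀} => V b.1) ⊞ Q) := fun Q =>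
      biprod.mapIso (s ≪≫ biprod.mapIso u (Iso.refl _)) (Iso.refl Q) ≪≫ biprod.associator _ _ _
    obtain ⟨e₂⟩ := (hV j₀).cancel ((t M).symm ≪≫ e' ≪≫ t N)
    refine ih (J := {j // ¬ j = j₀}) inferInstance (fun b => V b.1) (fun b => hV b.1) e₂ ?_
    rw [Fintype.card_subtype_compl, hn, Fintype.card_subtype_eq]
    rfl

/-- An object retracting from a sum of local objects is a sum of them. -/
theorem HasDecomp.exists_iso {ι : Type} {U : ι → C} (hU : ∀ i, IsLocalEnd (U i)) {M : C} (hM : HasDecomp M)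
    (h : InAdd U M) : ∃ (J : Type) (_ : Fintype J) (g : J → ι), Nonempty (M ≅ ⨁ fun j => U (g j)) := by
  obtain ⟨J, hJ, V, hV, ⟨eM⟩⟩ := hM
  have hi : ∀ j, ∃ i, Nonempty (V j ≅ U i) := fun j => by
    have hj : InAdd U (V j) := h.of_retract ⟨biproduct.ι V j ≫ eM.inv, eM.hom ≫ biproduct.π V j, by simp⟩
    obtain ⟨i, ⟨r⟩⟩ := (hV j).exists_retract hj
    exact ⟨i, (hV j).iso_of_retract (hU i) r⟩
  choose g hg using hi
  exact ⟨J, hJ, g, ⟨eM ≪≫ biproduct.mapIso fun j => (hg j).some⟩⟩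

end Groth.Agent.H7KS

namespace Groth.Agent.H7KS

variable (k : Type*) [Field k] {C : Type u₁} [Category.{v} C] [Abelian C] [Linear k C] [HasFiniteBiproducts C]

theorem isLocalEnd_of_indecomposable {U : C} [Module.Finite k (End U)] (h0 : ¬ IsZero U)
    (hind : ∀ E₁ E₂ : C, Nonempty (U ≅ E₁ ⊞ E₂) → IsZero E₁ ∨ IsZero E₂) : IsLocalEnd U :=
  ⟨h0, fun f g h => (H29RR.isUnit_or_of_isUnit_add (k := k) (A := End U)
    (fun e he => H29RR.idem_of_indecomposable hind e he) (a := f) (b := g) ((isUnit_iff_isIso _).2 h)).imp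
      (isUnit_iff_isIso _).1 (isUnit_iff_isIso _).1⟩

/-- Existence of decompositions in a class with finite-dimensional endomorphism algebras. -/
theorem hasDecomp (p : C → Prop) (hp : ∀ {M N : C}, Retract M N → p N → p M)
    (hfin : ∀ M, p M → Module.Finite k (M ⟶ M)) : ∀ M, p M → HasDecomp M := by
  classical
  intro M hM
  induction hn : Module.finrank k (M ⟶ M) using Nat.strong_induction_on generalizing M with
  | _ n ih =>
    by_cases h0 : IsZero M
    · exact ⟨Fin 0, inferInstance, fun _ => M, fun j => j.elim0, ⟨h0.iso (by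
        rw [IsZero.iff_id_eq_zero, ← biproduct.total]
        exact Finset.sum_of_isEmpty _)⟩⟩
    haveI := hfin M hM
    by_cases hind : ∀ E₁ E₂ : C, Nonempty (M ≅ E₁ ⊞ E₂) → IsZero E₁ ∨ IsZero E₂
    · haveI : Module.Finite k (End M) := hfin M hM
      exact ⟨Fin 1, inferInstance, fun _ => M, fun _ => isLocalEnd_of_indecomposable k h0 hind,
        ⟨(biproductUniqueIso (fun _ : Fin 1 => M)).symm⟩⟩
    push Not at hind
    obtain ⟨E₁, E₂, ⟨e⟩, h1, h2⟩ := hind
    have key : ∀ (A B : C) (i : A ⟶ M) (r : M ⟶ A) (j : B ⟶ M), i ≫ r = 𝟙 A → j ≫ r = 0 → ¬ IsZero B →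
        Mono j → HasDecomp A := by
      intro A B i r j hir hjr hB hj
      have hA : p A := hp ⟨i, r, hir⟩ hM
      refine ih _ ?_ A hA rfl
      let L : (A ⟶ A) →ₗ[k] (M ⟶ M) :=
        { toFun := fun φ => r ≫ φ ≫ i
          map_add' := fun φ ψ => by simp [Preadditive.comp_add, Preadditive.add_comp]
          map_smul' := fun c φ => by simp }
      have hL : Function.Injective L := fun φ ψ h => by
        have := congrArg (fun t => i ≫ t ≫ r) h
        simpa [L, reassoc_of% hir, hir] using this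
      have hne : LinearMap.range L ≠ ⊤ := fun htop => by
        obtain ⟨φ, hφ⟩ := LinearMap.mem_range.1 (htop ▸ (Submodule.mem_top : (𝟙 M) ∈ (⊤ : Submodule k (M ⟶ M))))
        apply hB
        rw [IsZero.iff_id_eq_zero, ← cancel_mono j, zero_comp, Category.id_comp, ← Category.comp_id j, ← hφ]
        show j ≫ r ≫ φ ≫ i = 0
        rw [← Category.assoc, hjr, zero_comp]
      rw [← hn, ← LinearMap.finrank_range_of_inj hL]
      exact Submodule.finrank_lt hne
    obtain ⟨J₁, hJ₁, V₁, hV₁, ⟨e₁⟩⟩ := key E₁ E₂ (biprod.inl ≫ e.inv) (e.hom ≫ biprod.fst) (biprod.inr ≫ e.inv)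
      (by simp) (by simp) h2 inferInstance
    obtain ⟨J₂, hJ₂, V₂, hV₂, ⟨e₂⟩⟩ := key E₂ E₁ (biprod.inr ≫ e.inv) (e.hom ≫ biprod.snd) (biprod.inl ≫ e.inv)
      (by simp) (by simp) h1 inferInstance
    exact ⟨J₁ ⊕ J₂, inferInstance, Sum.elim V₁ V₂, fun j => by cases j <;> simp [hV₁, hV₂],
      ⟨e ≪≫ biprod.mapIso e₁ e₂ ≪≫ (sumSplit (Sum.elim V₁ V₂)).symm⟩⟩

end Groth.Agent.H7KS
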