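import Groth.Agent.H7KS.Weil
import Groth.Agent.H23KS.RankOne
import Groth.Agent.H24Formal.ModPow
import Groth.Agent.LeadFF.ProIso.Quot
import Groth.Agent.H29RR.MonoHom
import Groth.Agent.H11Sym.InvertibleInverse

/-!
Invertible modules finite in the sense of Weil are torsion.
-/

set_option autoImplicit false
set_option linter.style.haveILetI false
universe u

open CategoryTheory CategoryTheory.Limits AlgebraicGeometry

namespace Groth.Agent.H7KS

variable (k : Type u) [Field k] [IsAlgClosed k] {X : Scheme.{u}} [X.Over (Spec (CommRingCat.of k))] [IsIntegral X]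
  [IsProper (X ↘ Spec (CommRingCat.of k))]

include k in
theorem isLocalEnd_invertible {M : X.Modules} (hM : PicF.IsInvertible M) : IsLocalEnd M := by
  haveI := H29RR.isNoetherian_of_proper (k := k) (X := X)
  have hne : ¬ IsZero M := fun hz => by
    obtain ⟨-, -, hr⟩ := H25Par.finrank_stalk (H29RR.rank_one_of_isInvertible hM) (genericPoint X)
    haveI : Subsingleton ((DerSch.stalkFunctor X (genericPoint X)).obj M) :=
      ModuleCat.isZero_iff_subsingleton.1 ((DerSch.stalkFunctor X (genericPoint X)).map_isZero hz)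
    have h0 : Module.finrank (X.presheaf.stalk (genericPoint X)) ((DerSch.stalkFunctor X (genericPoint X)).obj M) = 0 :=
      Module.finrank_zero_of_subsingleton
    exact one_ne_zero ((show Module.finrank (X.presheaf.stalk (genericPoint X)) ((DerSch.stalkFunctor X (genericPoint X)).obj M) = 1 from hr).symm.trans h0)
  have hend : ∀ φ : M ⟶ M, φ ≠ 0 → IsIso φ := fun φ hφ => by
    obtain ⟨c, rfl⟩ := H23KS.end_invertible_scalar (K := k) hM hne φ
    have hc : c ≠ 0 := fun e => hφ (e ▸ LeadFF.ProIso.smulMod_zero M)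
    exact ⟨⟨Formal.smulMod k M c⁻¹, by rw [H24Formal.smulMod_mul, inv_mul_cancel₀ hc, LeadFF.ProIso.smulMod_one],
      by rw [H24Formal.smulMod_mul, mul_inv_cancel₀ hc, LeadFF.ProIso.smulMod_one]⟩⟩
  refine ⟨hne, fun f g h => ?_⟩
  by_cases hf : f = 0
  · rw [hf, zero_add] at h
    exact Or.inr h
  · exact Or.inl (hend f hf)

include k in
theorem wf_iff_torsion {L : X.Modules} (hL : PicF.IsInvertible L) :
    WF L ↔ ∃ m : ℕ, 0 < m ∧ Nonempty (CohB1.tensorPow L m ≅ Coh.structureModule X) := by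
  haveI := H29RR.isNoetherian_of_proper (k := k) (X := X)
  have hcoh : ∀ n, Coh.IsCoh (CohB1.tensorPow L n) := fun n =>
    H11Ample.isCoh_of_isInvertible (H11Ample.isInvertible_tensorPow hL n)
  constructor
  · intro h
    obtain ⟨N, hN⟩ := gen_of_wf k hcoh h
    have hloc := fun n => isLocalEnd_invertible k (H11Ample.isInvertible_tensorPow hL n)
    obtain ⟨i, ⟨r⟩⟩ := (hloc N).exists_retract (hN N)
    obtain ⟨e⟩ := (hloc N).iso_of_retract (hloc i) r
    refine ⟨N - i, by omega, ?_⟩
    obtain ⟨L', hL', ⟨ε⟩⟩ := H11Sym.exists_inverse (H11Ample.isInvertible_tensorPow hL i)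
    obtain ⟨a⟩ := H22Alg.DegAmple.nonempty_tensorPow_add L (N - i) i
    let e₁ : CohB1.tensorMod (CohB1.tensorPow L (N - i)) (CohB1.tensorPow L i) ≅ CohB1.tensorPow L i :=
      a ≪≫ eqToIso (by rw [Nat.sub_add_cancel (le_of_lt i.2)]) ≪≫ e
    let ε' : CohB1.tensorMod (CohB1.tensorPow L i) L' ≅ Coh.structureModule X := H10Coh.Tw.commIso _ _ ≪≫ ε
    exact ⟨(H10Coh.Tw.rightUnitIso _).symm ≪≫ PicGrp.tensorModIso (Iso.refl _) ε'.symm ≪≫
      (H10Coh.Tw.assoc _ _ _).symm ≪≫ PicGrp.tensorModIso e₁ (Iso.refl L') ≪≫ ε'⟩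
  · rintro ⟨m, hm, ⟨e⟩⟩
    refine wf_of_inAdd k hcoh (fun i : Fin m => CohB1.tensorPow L i) (fun i => hcoh i) fun n => ?_
    induction n with
    | zero => exact inAdd_self (fun i : Fin m => CohB1.tensorPow L i) ⟨0, hm⟩
    | succ n ih =>
      let F := (DCoh.tensorBi (X := X)).flip.obj L
      haveI : F.Additive := inferInstanceAs (((DCoh.tensorBi (X := X)).flip.obj L).Additive)
      refine (ih.map F).trans fun i => ?_
      show InAdd _ (CohB1.tensorPow L (i + 1))
      rcases Nat.lt_or_ge ((i : ℕ) + 1) m with h | h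
      · exact inAdd_self (fun i : Fin m => CohB1.tensorPow L i) ⟨i + 1, h⟩
      · rw [show (i : ℕ) + 1 = m by omega]
        exact (inAdd_self (fun i : Fin m => CohB1.tensorPow L i) ⟨0, hm⟩).of_iso e

end Groth.Agent.H7KS
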