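import Groth.Agent.H7KS.Weil
import Groth.Agent.H25Index.Split
import Groth.Agent.H10Coh.ProjFormulaFLF
import Groth.Agent.H22Alg.FiniteDegree
import Mathlib.AlgebraicGeometry.Morphisms.FlatRank

/-!
Bundles trivialised by finite étale covers are finite in the sense of Weil.
-/

set_option autoImplicit false
set_option linter.style.haveILetI false
set_option backward.isDefEq.respectTransparency false
universe u

open CategoryTheory CategoryTheory.Limits AlgebraicGeometry Opposite

namespace Groth.Agent.H7KS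

variable (k : Type u) [Field k] [CharZero k] {X : Scheme.{u}} [X.Over (Spec (CommRingCat.of k))] [IsIntegral X]
  [IsProper (X ↘ Spec (CommRingCat.of k))]

include k in
theorem wf_of_trivial_pullback {Y : Scheme.{u}} (f : Y ⟶ X) [IsFinite f] [Etale f] [Surjective f]
    (r : ℕ) {E : X.Modules} (hE : FlatMod.IsFinLocFree E)
    (htriv : Nonempty ((Scheme.Modules.pullback f).obj E ≅ FlatMod.freeMod Y r)) : WF E := by
  haveI := H29RR.isNoetherian_of_proper (k := k) (X := X)
  haveI : IsLocallyNoetherian Y := LocallyOfFiniteType.isLocallyNoetherian f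
  haveI : LocallyOfFinitePresentation f := inferInstance
  let d := f.finrank (genericPoint X)
  have hd : ∀ x, f.finrank x = d := fun x =>
    (Scheme.Hom.isLocallyConstant_finrank f).apply_eq_of_preconnectedSpace x _
  have hd0 : d ≠ 0 := by
    have := (Scheme.Hom.one_le_finrank_iff_surjective f).2 inferInstance (genericPoint X)
    simp only [Pi.one_apply] at this
    omega
  obtain ⟨w, hw⟩ : ∃ w : Γ(X, ⊤), (d : Γ(X, ⊤)) * w = 1 := by
    have hu : IsUnit (d : k) := (Nat.cast_ne_zero.2 hd0).isUnit
    have hu2 := hu.map ((Scheme.ΓSpecIso (CommRingCat.of k)).inv ≫ (X ↘ Spec (CommRingCat.of k)).appTop).hom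
    rw [map_natCast] at hu2
    exact ⟨↑hu2.unit⁻¹, hu2.mul_val_inv⟩
  obtain ⟨σ, τ, hστ⟩ := H25Index.exists_retraction f d hd w hw
  let O := Coh.structureModule Y
  let P := (Scheme.Modules.pushforward f).obj O
  have hP : FlatMod.IsFinLocFree P := H29Disc.isFinLocFree_pushO f
  refine wf_of_inAdd k (isCoh_tensorPow k hE) (fun _ : Fin 1 => P)
    (fun _ => H16Derived.KFlat.Stalk.isCoh_of_isFinLocFree hP) fun m => ?_
  induction m with
  | zero => exact (inAdd_self (fun _ : Fin 1 => P) 0).of_retract ⟨σ, τ, hστ⟩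
  | succ m ih =>
    let F := (DCoh.tensorBi (X := X)).flip.obj E
    haveI : F.Additive := inferInstanceAs (((DCoh.tensorBi (X := X)).flip.obj E).Additive)
    refine (ih.map F).trans fun _ => ?_
    obtain ⟨e⟩ := htriv
    have hψ : IsIso (H10Coh.PF.ψT f E O) := H10Coh.PF.isIso_ψ_of_isFinLocFree f hE O
    let e₁ : F.obj P ≅ (Scheme.Modules.pushforward f).obj (CohB1.tensorMod O ((Scheme.Modules.pullback f).obj E)) :=
      @asIso _ _ _ _ (H10Coh.PF.ψT f E O) hψ
    let e₂ : CohB1.tensorMod O ((Scheme.Modules.pullback f).obj E) ≅ ⨁ fun _ : Fin r => O :=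
      H10Coh.Tw.leftUnitIso _ ≪≫ e ≪≫ (biproduct.isoCoproduct fun _ : Fin r => O).symm
    haveI : (Scheme.Modules.pushforward f).Additive := inferInstance
    exact ((inAdd_biproduct (fun _ : Fin 1 => O) (fun _ : Fin r => (0 : Fin 1)) (Retract.ofIso e₂)).map
      (Scheme.Modules.pushforward f)).of_iso e₁

end Groth.Agent.H7KS
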