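import Groth.Agent.H7KS.Isotrivial
import Groth.Agent.H18FinEt.Torsor
import Groth.Agent.H19Grp.Cartier
import Groth.Agent.H06Unram.SmoothQF
import Groth.Prelude.Def_Red

/-!
Torsors under finite groups in characteristic zero are finite étale covers.
-/

set_option autoImplicit false
set_option linter.style.haveILetI false
set_option backward.isDefEq.respectTransparency false
universe u

open CategoryTheory CategoryTheory.Limits AlgebraicGeometry

namespace Groth.Agent.H7KS

variable (k : Type u) [Field k] [CharZero k] {X : Scheme.{u}} [X.Over (Spec (CommRingCat.of k))]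

theorem finite_etale_of_torsor (G : Over (Spec (CommRingCat.of k))) [GrpObj G] [IsFinite G.hom]
    (P : Over X) (a : AlgGrp.Action (Red.bc (X ↘ Spec (CommRingCat.of k)) G) P)
    (hP : NonAbH1.IsTorsorFor Scheme.fppfPrecoverage a) : IsFinite P.hom ∧ Etale P.hom ∧ Surjective P.hom := by
  haveI : Smooth G.hom := H19Grp.smooth_of_charZero G
  haveI hs : Smooth (Red.bc (X ↘ Spec (CommRingCat.of k)) G).hom := by
    show Smooth (pullback.snd _ _); infer_instance
  have hf : IsFinite (Red.bc (X ↘ Spec (CommRingCat.of k)) G).hom := by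
    show IsFinite (pullback.snd _ _); infer_instance
  have h' : NonAbH1.IsTorsorFor Scheme.fpqcPrecoverage a :=
    ⟨hP.1, hP.2.choose, Scheme.fppfPrecoverage_le_fpqcPrecoverage _ hP.2.choose_spec.1, hP.2.choose_spec.2⟩
  haveI : IsFinite P.hom := H18Torsor.property_of_isTorsorFor a @IsFinite h' hf
  obtain ⟨hsm, hsurj⟩ := H18FinEt.smooth_surjective_of_isTorsorFor hP
  exact ⟨inferInstance, (H06Unram.etale_iff_smooth_and_locallyQuasiFinite P.hom).2 ⟨hsm, inferInstance⟩, hsurj⟩

end Groth.Agent.H7KS
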